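import Groth.Agent.FormGr.Conn
import Groth.Agent.FormalStalk.Completion
import Groth.Agent.LefEssSurj.Extends
import Groth.Agent.S0239

/-!
Purity lifts from `A/J` to `A` when the associated graded ring along `J` is free.
-/

set_option autoImplicit false
set_option linter.style.haveILetI false
set_option maxHeartbeats 1000000
set_option backward.isDefEq.respectTransparency false
set_option backward.isDefEq.respectTransparency.types false
universe u

open IsLocalRing AlgebraicGeometry CategoryTheory CategoryTheory.Limits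

noncomputable section

namespace Groth.Agent.PurGr2

/-- The complete case. -/
theorem purityHolds_of_quotient {A : Type u} [CommRing A] [IsLocalRing A] [IsNoetherianRing A] (J : Ideal A)
    [IsLocalRing (A ⧸ J)] [IsAdicComplete J A]
    (hd : (2 : ℕ∞) ≤ LocCoh.depth (A ⧸ J) (A ⧸ J))
    (hflat : ∀ n : ℕ, Module.Flat (A ⧸ J) (↥(J ^ n) ⧸ (J • (⊤ : Submodule A ↥(J ^ n)))))
    (h0 : FEt.PurityHolds (A ⧸ J)) : FEt.PurityHolds A := by
  haveI := Groth.Agent.S0239.result A J
  have hH : ∀ i, i < 2 → Subsingleton (LocCoh.H (maximalIdeal A) i (A ⧸ J)) := fun i hi =>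
    FormGr.subsingleton_H_of_depth_local J hd hi
  haveI : IsLocallyNoetherian (↑(FEt.puncturedSpec A) : Scheme.{u}) :=
    LocallyOfFiniteType.isLocallyNoetherian (FEt.puncturedSpec A).ι
  obtain ⟨h1, h2⟩ := LefDepth.restrict_full_faithful_of_range (FormGr.idealSheaf (FEt.puncturedSpec A) J)
    (FormGr.homToFormal J _ hflat hH (FormAlg.puncturedSpec_eq A)) (LefEssSurj.punctMap J) (by
      rw [← (LefEssSurj.punctMap J).isClosedEmbedding.isClosed_range.closure_eq,
        ← (LefEssSurj.punctMap J).support_ker, LefEssSurj.ker_punctMap])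
  haveI := h1
  haveI := h2
  exact LefEssSurj.purityHolds_of_extends fun E =>
    LefEssSurj.extends_of_square (LefEssSurj.punctMap_ι J) E (LefEssSurj.extends_of_purityHolds h0 _)

/-- Purity lifts along a normally flat quotient. -/
theorem depth_purity_of_gr_free (A : Type u) [CommRing A] [IsLocalRing A] [IsNoetherianRing A] (J : Ideal A)
    (hJ : J ≠ ⊤) [IsLocalRing (A ⧸ J)] (hd : (3 : ℕ∞) ≤ LocCoh.depth (A ⧸ J) (A ⧸ J))
    (hgr : ∀ n : ℕ, Module.Free (A ⧸ J) (↥(J ^ n) ⧸ (J • (⊤ : Submodule A ↥(J ^ n)))))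
    (h0 : FEt.PurityHolds (A ⧸ J)) : (3 : ℕ∞) ≤ LocCoh.depth A A ∧ FEt.PurityHolds A := by
  have hA : (3 : ℕ∞) ≤ LocCoh.depth A A :=
    FormGr.le_depth_of_normallyFlat A J hJ (k := 3) hd fun n => haveI := hgr n; inferInstance
  refine ⟨hA, ?_⟩
  let C := AdicCompletion J A
  let ι := algebraMap A C
  let I := J.map ι
  have hfg : J.FG := IsNoetherian.noetherian J
  haveI : IsNoetherianRing C := FormalStalk.isNoetherianRing J
  haveI : IsAdicComplete J C := AdicCompletion.isAdicComplete hfg
  haveI : IsAdicComplete I C := (IsAdicComplete.map_algebraMap_iff _ _).2 inferInstance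
  have hIjac : I ≤ (⊥ : Ideal C).jacobson := FormalStalk.map_le_jacobson J hfg
  -- the truncations
  have hbij : ∀ n, Function.Bijective (Ideal.quotientMap (I ^ n) ι
      (Ideal.map_le_iff_le_comap.1 (Ideal.map_pow ι J n).le)) := fun n => by
    have he : (FormalStalk.truncEquiv J hfg n).symm.toRingHom = Ideal.quotientMap (I ^ n) ι
        (Ideal.map_le_iff_le_comap.1 (Ideal.map_pow ι J n).le) := by
      refine Ideal.Quotient.ringHom_ext (RingHom.ext fun a => ?_)
      show (FormalStalk.truncEquiv J hfg n).symm _ = Ideal.Quotient.mk _ (ι a)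
      rw [RingEquiv.symm_apply_eq, FormalStalk.truncEquiv_mk, FormalStalk.evalₐ_algebraMap]
    rw [← he]
    exact (FormalStalk.truncEquiv J hfg n).symm.bijective
  have hcomap : ∀ n a, ι a ∈ I ^ n → a ∈ J ^ n := fun n a h => by
    rw [← Ideal.Quotient.eq_zero_iff_mem] at h ⊢
    exact (hbij n).1 (by rw [Ideal.quotientMap_mk, h, map_zero])
  have hsurj : ∀ n, ∀ c : C, ∃ a : A, c - ι a ∈ I ^ n := fun n c => by
    obtain ⟨z, hz⟩ := (hbij n).2 (Ideal.Quotient.mk _ c)
    obtain ⟨a, rfl⟩ := Ideal.Quotient.mk_surjective z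
    rw [Ideal.quotientMap_mk, eq_comm, Ideal.Quotient.eq] at hz
    exact ⟨a, hz⟩
  let τ : (A ⧸ J) ≃+* (C ⧸ I) := RingEquiv.ofBijective (Ideal.quotientMap I ι Ideal.le_comap_map) (by
    refine ⟨Ideal.quotientMap_injective' fun a ha => ?_, fun z => ?_⟩
    · simpa using hcomap 1 a (by simpa using ha)
    · obtain ⟨c, rfl⟩ := Ideal.Quotient.mk_surjective z
      obtain ⟨a, ha⟩ := hsurj 1 c
      exact ⟨Ideal.Quotient.mk J a, by rw [Ideal.quotientMap_mk, eq_comm, Ideal.Quotient.eq]; simpa using ha⟩)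
  haveI : IsLocalRing (C ⧸ I) := τ.isLocalRing
  haveI : Nontrivial C := (Ideal.Quotient.mk I).domain_nontrivial
  -- locality
  haveI : IsLocalRing C := by
    refine IsLocalRing.of_unique_max_ideal ⟨(maximalIdeal (C ⧸ I)).comap (Ideal.Quotient.mk I),
      Ideal.comap_isMaximal_of_surjective _ Ideal.Quotient.mk_surjective, fun M hM => ?_⟩
    have hle : I ≤ M := hIjac.trans (Ideal.jacobson_bot (R := C) ▸ Ring.jacobson_le_of_isMaximal M)
    haveI hq : (M.map (Ideal.Quotient.mk I)).IsMaximal :=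
      Ideal.IsMaximal.map_of_surjective_of_ker_le Ideal.Quotient.mk_surjective (by rwa [Ideal.mk_ker])
    rw [← eq_maximalIdeal hq, Ideal.comap_map_of_surjective _ Ideal.Quotient.mk_surjective, ← RingHom.ker_eq_comap_bot,
      Ideal.mk_ker, sup_eq_left.2 hle]
  have hm : maximalIdeal C = (maximalIdeal A).map ι := by
    refine le_antisymm (fun c hc => ?_) (Ideal.map_le_iff_le_comap.2 fun a ha => ?_)
    · obtain ⟨a, ha⟩ := hsurj 1 c
      rw [pow_one] at ha
      have hJm : J ≤ maximalIdeal A := le_maximalIdeal hJ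
      rw [← sub_add_cancel c (ι a)]
      refine add_mem (Ideal.map_mono hJm ha) (Ideal.mem_map_of_mem ι ?_)
      intro hu
      have hsub : ι a ∈ maximalIdeal C := by
        rw [← sub_sub_cancel c (ι a)]
        exact sub_mem hc (le_maximalIdeal (fun e => by
          haveI : Subsingleton (C ⧸ I) := Ideal.Quotient.subsingleton_iff.2 e
          exact false_of_nontrivial_of_subsingleton (C ⧸ I)) ha)
      exact hsub (hu.map ι)
    · intro hu
      have h1 : IsUnit (τ (Ideal.Quotient.mk J a)) := hu.map (Ideal.Quotient.mk I)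
      haveI : IsLocalHom (Ideal.Quotient.mk J) := .of_surjective _ Ideal.Quotient.mk_surjective
      exact ha (isUnit_of_map_unit (Ideal.Quotient.mk J) a ((MulEquiv.isUnit_map τ).1 h1))
  haveI : IsLocalHom ι := ((local_hom_TFAE ι).out 0 2).2 (by rw [hm])
  have hflatι : ι.Flat := RingHom.flat_algebraMap_iff.2 inferInstance
  -- the graded pieces
  have hflatC : ∀ n : ℕ, Module.Flat (C ⧸ I) (↥(I ^ n) ⧸ (I • (⊤ : Submodule C ↥(I ^ n)))) := fun n => by
    let M := ↥(J ^ n) ⧸ (J • (⊤ : Submodule A ↥(J ^ n)))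
    let M' := ↥(I ^ n) ⧸ (I • (⊤ : Submodule C ↥(I ^ n)))
    haveI := hgr n
    have hmem : ∀ {R : Type u} [CommRing R] (K : Ideal R) (x : ↥(K ^ n)),
        x ∈ K • (⊤ : Submodule R ↥(K ^ n)) ↔ (x : R) ∈ K ^ (n + 1) := fun {R} _ K x => by
      have h : (K • (⊤ : Submodule R ↥(K ^ n))).map (K ^ n).subtype = K ^ (n + 1) := by
        rw [Submodule.map_smul'', Submodule.map_top, Submodule.range_subtype, smul_eq_mul, ← pow_succ']
      rw [← h]
      exact ⟨fun hx => ⟨x, hx, rfl⟩, fun ⟨y, hy, hyx⟩ => Subtype.val_injective hyx ▸ hy⟩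
    let f₀ : ↥(J ^ n) →+ M' :=
      { toFun := fun x => Submodule.Quotient.mk ⟨ι x, (Ideal.map_pow ι J n).le (Ideal.mem_map_of_mem ι x.2)⟩
        map_zero' := by
          simp only [map_zero, ZeroMemClass.coe_zero]; rfl
        map_add' := fun x y => by
          simp only [map_add, Submodule.coe_add]; rfl }
    have hker : ∀ x : ↥(J ^ n), f₀ x = 0 ↔ x ∈ J • (⊤ : Submodule A ↥(J ^ n)) := fun x => by
      show Submodule.Quotient.mk _ = 0 ↔ _
      rw [Submodule.Quotient.mk_eq_zero, hmem, hmem]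
      exact ⟨hcomap _ _, fun h => (Ideal.map_pow ι J (n + 1)).le (Ideal.mem_map_of_mem ι h)⟩
    let f : M →+ M' := QuotientAddGroup.lift _ f₀ fun x hx => (hker x).2 hx
    have hf : Function.Bijective f := by
      refine ⟨(injective_iff_map_eq_zero f).2 fun z => ?_, fun z => ?_⟩
      · obtain ⟨x, rfl⟩ := Submodule.Quotient.mk_surjective _ z
        exact fun hz => (Submodule.Quotient.mk_eq_zero _).2 ((hker x).1 hz)
      · obtain ⟨y, rfl⟩ := Submodule.Quotient.mk_surjective _ z
        obtain ⟨a, ha⟩ := hsurj (n + 1) y.1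
        have haJ : a ∈ J ^ n := hcomap n a (by
          rw [← sub_sub_cancel (y : C) (ι a)]
          exact sub_mem y.2 (Ideal.pow_le_pow_right (Nat.le_succ n) ha))
        refine ⟨Submodule.Quotient.mk ⟨a, haJ⟩, (Submodule.Quotient.eq _).2 ((hmem I _).2 ?_)⟩
        rw [← neg_sub] at ha
        exact neg_mem_iff.1 ha
    haveI : Module.Free (C ⧸ I) M' := by
      letI : RingHomInvPair τ.toRingHom τ.symm.toRingHom := RingHomInvPair.of_ringEquiv τ
      letI := RingHomInvPair.symm τ.toRingHom τ.symm.toRingHom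
      let e : M ≃ₛₗ[τ.toRingHom] M' := { AddEquiv.ofBijective f hf with map_smul' := fun r z => ?_ }
      exact Module.Free.of_equiv e
      obtain ⟨a, rfl⟩ := Ideal.Quotient.mk_surjective r
      obtain ⟨x, rfl⟩ := Submodule.Quotient.mk_surjective _ z
      show f (Submodule.Quotient.mk (a • x)) = τ (Ideal.Quotient.mk J a) • f (Submodule.Quotient.mk x)
      refine Eq.trans ?_ (show Submodule.Quotient.mk ((ι a) • (⟨ι x, _⟩ : ↥(I ^ n))) = _ from rfl)
      exact congrArg _ (Subtype.ext (map_mul ι a x))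
    exact inferInstance
  refine LefEssSurj.purityHolds_of_flat ι hflatι (by rw [hm]; exact Ideal.le_radical) (le_trans (by norm_num) hA)
    (purityHolds_of_quotient I ((le_trans (by norm_num) hd).trans_eq (FlatDepth.depth_ringEquiv τ)) hflatC ?_)
  exact LefEssSurj.purityHolds_congr τ.symm h0

end Groth.Agent.PurGr2
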